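import Mathlib
import Groth.Prelude.Def_FlatCA

/-!
# Weakly associated primes under finite flat and étale ring maps
-/

set_option autoImplicit false
set_option backward.isDefEq.respectTransparency false
set_option linter.style.haveILetI false

universe u

open TensorProduct

namespace Groth.Agent.WeakAssLib

theorem mem_ann_iff {R M : Type*} [CommRing R] [AddCommGroup M] [Module R M] {m : M} {r : R} :
    r ∈ (Submodule.span R {m}).annihilator ↔ r • m = 0 :=
  Submodule.mem_annihilator_span_singleton m r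

theorem ann_equiv {R M M' : Type*} [CommRing R] [AddCommGroup M] [Module R M] [AddCommGroup M'] [Module R M']
    (e : M ≃ₗ[R] M') (m : M) : (Submodule.span R {e m}).annihilator = (Submodule.span R {m}).annihilator :=
  Ideal.ext fun r => by rw [mem_ann_iff, mem_ann_iff, ← map_smul, e.map_eq_zero_iff]

theorem weakAss_equiv {R M M' : Type u} [CommRing R] [AddCommGroup M] [Module R M] [AddCommGroup M'] [Module R M']
    (e : M ≃ₗ[R] M') : FlatCA.weakAss R M = FlatCA.weakAss R M' :=
  Set.ext fun p => ⟨fun ⟨m, hm⟩ => ⟨e m, (ann_equiv e m).symm ▸ hm⟩,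
    fun ⟨m, hm⟩ => ⟨e.symm m, (ann_equiv e.symm m).symm ▸ hm⟩⟩

/-- The annihilator of `1 ⊗ m` in a flat base change. -/
theorem annihilator_one_tmul {A B M : Type u} [CommRing A] [CommRing B] [Algebra A B] [Module.Flat A B]
    [AddCommGroup M] [Module A M] (m : M) :
    (Submodule.span B {(1 : B) ⊗ₜ[A] m}).annihilator =
      (Submodule.span A {m}).annihilator.map (algebraMap A B) := by
  let I := (Submodule.span A {m}).annihilator
  refine le_antisymm (fun b hb => ?_) (Ideal.map_le_iff_le_comap.2 fun a ha => ?_)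
  · rw [mem_ann_iff, TensorProduct.smul_tmul', smul_eq_mul, mul_one] at hb
    let f : (A ⧸ I) →ₗ[A] M := Submodule.liftQ I (LinearMap.toSpanSingleton A M m) fun a ha =>
      LinearMap.mem_ker.2 (mem_ann_iff.1 ha)
    have hf : Function.Injective f := by
      rw [← LinearMap.ker_eq_bot, Submodule.ker_liftQ_eq_bot']
      exact Ideal.ext fun a => mem_ann_iff.trans (by rw [LinearMap.mem_ker, LinearMap.toSpanSingleton_apply])
    have h1 : b ⊗ₜ[A] (Submodule.Quotient.mk 1 : A ⧸ I) = 0 := by
      refine Module.Flat.lTensor_preserves_injective_linearMap (M := B) f hf ?_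
      rw [LinearMap.lTensor_tmul, map_zero, Submodule.liftQ_apply, LinearMap.toSpanSingleton_apply, one_smul]
      exact hb
    have h2 := congrArg (TensorProduct.tensorQuotEquivQuotSMul B I) h1
    rw [map_zero] at h2
    erw [TensorProduct.tensorQuotEquivQuotSMul_tmul_mk] at h2
    rw [one_smul, Submodule.Quotient.mk_eq_zero, Ideal.smul_top_eq_map] at h2
    exact h2
  · rw [Ideal.mem_comap, mem_ann_iff, algebraMap_smul, ← TensorProduct.tmul_smul, mem_ann_iff.1 ha,
      TensorProduct.tmul_zero]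

variable {A B M : Type u} [CommRing A] [CommRing B] [Algebra A B] [AddCommGroup M] [Module A M]

/-- Primes over a weakly associated prime are weakly associated to a flat quasi-finite base change. -/
theorem mem_weakAss_of_mem [Module.Flat A B] [Algebra.QuasiFinite A B] (t : Ideal B) [t.IsPrime]
    (h : t.under A ∈ FlatCA.weakAss A M) : t ∈ FlatCA.weakAss B (B ⊗[A] M) := by
  obtain ⟨m, hm⟩ := h
  refine ⟨1 ⊗ₜ m, ?_⟩
  rw [annihilator_one_tmul]
  refine ⟨⟨inferInstance, Ideal.map_le_iff_le_comap.2 hm.1.2⟩, fun q hq hqt => ?_⟩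
  haveI := hq.1
  have h1 : t.under A ≤ q.under A := hm.2 ⟨inferInstance, Ideal.map_le_iff_le_comap.1 hq.2⟩ (Ideal.comap_mono hqt)
  exact (Algebra.QuasiFinite.eq_of_le_of_under_eq (R := A) q t hqt
    (le_antisymm (Ideal.comap_mono hqt) h1)).ge

variable [Module.Finite A B]

/-- Isolating a weakly associated prime among the primes of its fibre. -/
theorem exists_isolated {N : Type u} [AddCommGroup N] [Module B N] [Module A N] [IsScalarTower A B N]
    (t : Ideal B) [t.IsPrime] (h : t ∈ FlatCA.weakAss B N) :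
    ∃ z : N, (∀ a : A, a ∉ t.under A → a • z ≠ 0) ∧
      ∀ f ∈ t.under A, ∃ a : A, a ∉ t.under A ∧ ∃ n : ℕ, (a * f ^ n) • z = 0 := by
  classical
  obtain ⟨z, hz⟩ := h
  let J := (Submodule.span B {z}).annihilator
  let Ns : Finset (Ideal B) := ((Algebra.QuasiFinite.finite_primesOver (R := A) (S := B) (t.under A)).sdiff (t := {t})).toFinset
  have hNs : ∀ N ∈ Ns, N.IsPrime ∧ N.under A = t.under A ∧ N ≠ t := fun N hN => by
    obtain ⟨hN1, hN2⟩ := (Set.Finite.mem_toFinset _).1 hN
    exact ⟨hN1.1, hN1.2.over.symm, hN2⟩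
  let S : Submonoid B :=
    { carrier := {s | ∀ N ∈ Ns, s ∉ N}
      mul_mem' := fun {a b} ha hb N hN hab => ((hNs N hN).1.mem_or_mem hab).elim (ha N hN) (hb N hN)
      one_mem' := fun N hN h1 => (hNs N hN).1.ne_top ((Ideal.eq_top_iff_one _).2 h1) }
  obtain ⟨u, hu, s, hs, hus⟩ : ∃ u ∉ t, ∃ s ∈ S, s * u ∈ J := by
    by_contra hc
    push Not at hc
    have hd : Disjoint (J : Set B) ↑(S ⊔ t.primeCompl) := by
      rw [Set.disjoint_left]
      intro x hx hx'
      obtain ⟨s, hs, u, hu, rfl⟩ := Submonoid.mem_sup.1 hx'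
      exact hc u hu s hs hx
    obtain ⟨P, hP, hJP, hPd⟩ := Ideal.exists_le_prime_disjoint J (S ⊔ t.primeCompl) hd
    have hPt : P ≤ t := fun x hx => by
      by_contra hxt
      exact Set.disjoint_left.1 hPd hx (le_sup_right (a := S) (show x ∈ t.primeCompl from hxt))
    have htP : t ≤ P := hz.2 ⟨hP, hJP⟩ hPt
    have hsub : (t : Set B) ⊆ ⋃ N ∈ (↑Ns : Set (Ideal B)), id N := fun x hx => by
      have : x ∉ S := fun hxS => Set.disjoint_left.1 hPd (htP hx) (le_sup_left (b := t.primeCompl) hxS)
      have : ¬ ∀ N ∈ Ns, x ∉ N := this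
      push Not at this
      obtain ⟨N, hN, hxN⟩ := this
      exact Set.mem_biUnion (Finset.mem_coe.2 hN) hxN
    obtain ⟨N, hN, hle⟩ := (Ideal.subset_union_prime (f := id) ⊥ ⊥ fun i hi _ _ => (hNs i hi).1).1 hsub
    haveI := (hNs N hN).1
    exact (hNs N hN).2.2 (Algebra.QuasiFinite.eq_of_le_of_under_eq (R := A) t N hle (hNs N hN).2.1.symm).symm
  have hle : (Submodule.span B {u • z}).annihilator ≤ t := fun x hx => by
    rw [mem_ann_iff, smul_smul] at hx
    exact ((inferInstance : t.IsPrime).mem_or_mem (hz.1.2 (mem_ann_iff.2 hx))).resolve_right hu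
  refine ⟨u • z, fun a ha h0 => ha (hle (mem_ann_iff.2 (by rwa [algebraMap_smul]))), fun f hf => ?_⟩
  by_contra hc
  push Not at hc
  let J' := (Submodule.span B {u • z}).annihilator
  have hd : Disjoint ((J'.comap (algebraMap A B)) : Set A) ↑((t.under A).primeCompl ⊔ Submonoid.powers f) := by
    rw [Set.disjoint_left]
    intro x hx hx'
    obtain ⟨a, ha, y, ⟨n, rfl⟩, rfl⟩ := Submonoid.mem_sup.1 hx'
    refine hc a ha n ?_
    have := mem_ann_iff.1 (show algebraMap A B (a * f ^ n) ∈ J' from hx)
    rwa [algebraMap_smul] at this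
  obtain ⟨q, hq, hJq, hqd⟩ := Ideal.exists_le_prime_disjoint _ _ hd
  have hqp : q ≤ t.under A := fun x hx => by
    by_contra hxt
    exact Set.disjoint_left.1 hqd hx (le_sup_left (b := Submonoid.powers f) (show x ∈ (t.under A).primeCompl from hxt))
  have hfq : f ∉ q := fun h =>
    Set.disjoint_left.1 hqd h (le_sup_right (a := (t.under A).primeCompl) (Submonoid.mem_powers f))
  obtain ⟨Q, hJQ, hQ, hQq⟩ := Ideal.exists_ideal_over_prime_of_isIntegral q J' hJq
  obtain ⟨Q', hQQ', hQ', hQ'p⟩ := Ideal.exists_ideal_over_prime_of_isIntegral (t.under A) Q (hQq.le.trans hqp)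
  have hQ't : Q' = t := by
    by_contra hne
    have : Q' ∈ Ns := (Set.Finite.mem_toFinset _).2 ⟨⟨hQ', ⟨hQ'p.symm⟩⟩, hne⟩
    refine hs Q' this (hQQ' (hJQ (mem_ann_iff.2 ?_)))
    rw [smul_smul]
    exact mem_ann_iff.1 hus
  subst hQ't
  have hJle : J ≤ Q := le_trans (fun x hx => mem_ann_iff.2 (by
    rw [smul_comm, mem_ann_iff.1 hx, smul_zero])) hJQ
  have := hz.2 ⟨hQ, hJle⟩ hQQ'
  exact hfq (hQq ▸ (this hf : algebraMap A B f ∈ Q))

/-- A weakly associated prime of a finite flat base change lies over a weakly associated prime. -/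
theorem under_mem_weakAss [Module.Flat A B] (t : Ideal B) [t.IsPrime]
    (h : t ∈ FlatCA.weakAss B (B ⊗[A] M)) : t.under A ∈ FlatCA.weakAss A M := by
  classical
  obtain ⟨z, hz1, hz2⟩ := exists_isolated (A := A) t h
  let p := t.under A
  let Ap := Localization.AtPrime p
  let Bp := LocalizedModule p.primeCompl B
  haveI : Module.Finite Ap Bp := Module.Finite.of_isLocalizedModule p.primeCompl (LocalizedModule.mkLinearMap p.primeCompl B)
  haveI : Module.Free Ap Bp := Module.free_of_flat_of_isLocalRing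
  let e₀ := Module.Free.chooseBasis Ap Bp
  choose b hb using fun i => IsLocalizedModule.surj p.primeCompl (LocalizedModule.mkLinearMap p.primeCompl B) (e₀ i)
  let e := e₀.unitsSMul fun i => (IsLocalization.map_units Ap (b i).2).unit
  have he : ∀ i, e i = LocalizedModule.mkLinearMap p.primeCompl B (b i).1 := fun i => by
    rw [Module.Basis.unitsSMul_apply, Units.smul_def, IsUnit.unit_spec, algebraMap_smul, ← hb i]
    rfl
  -- clearing denominators
  have key : ∀ w : B ⊗[A] M, ∃ g ∈ p.primeCompl, ∃ m : Module.Free.ChooseBasisIndex Ap Bp → M,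
      g • w = ∑ i, (b i).1 ⊗ₜ[A] m i := by
    intro w
    induction w using TensorProduct.induction_on with
    | zero => exact ⟨1, Submonoid.one_mem _, fun _ => 0, by simp⟩
    | tmul x m =>
      obtain ⟨g, hg⟩ := IsLocalization.exist_integer_multiples_of_finite p.primeCompl
        (fun i => e.repr (LocalizedModule.mkLinearMap p.primeCompl B x) i)
      choose a ha using hg
      have : LocalizedModule.mkLinearMap p.primeCompl B ((g : A) • x) =
          LocalizedModule.mkLinearMap p.primeCompl B (∑ i, a i • (b i).1) := by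
        conv_lhs => rw [map_smul, ← e.sum_repr (LocalizedModule.mkLinearMap p.primeCompl B x), Finset.smul_sum]
        rw [map_sum]
        refine Finset.sum_congr rfl fun i _ => ?_
        rw [← smul_assoc, ← ha i, map_smul, ← he i, algebraMap_smul]
      obtain ⟨c, hc⟩ := (IsLocalizedModule.eq_iff_exists p.primeCompl (LocalizedModule.mkLinearMap p.primeCompl B)).1 this
      refine ⟨c * g, mul_mem c.2 g.2, fun i => ((c : A) * a i) • m, ?_⟩
      rw [mul_smul, TensorProduct.smul_tmul', TensorProduct.smul_tmul']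
      rw [show (c : A) • ((g : A) • x) = ∑ i, ((c : A) * a i) • (b i).1 by
        rw [show (c : A) • ((g : A) • x) = (c : A) • ∑ i, a i • (b i).1 from hc, Finset.smul_sum]
        exact Finset.sum_congr rfl fun i _ => smul_smul _ _ _]
      rw [TensorProduct.sum_tmul]
      exact Finset.sum_congr rfl fun i _ => TensorProduct.smul_tmul _ _ _
    | add w₁ w₂ h₁ h₂ =>
      obtain ⟨g₁, hg₁, m₁, e₁⟩ := h₁
      obtain ⟨g₂, hg₂, m₂, e₂⟩ := h₂
      refine ⟨g₂ * g₁, mul_mem hg₂ hg₁, fun i => g₂ • m₁ i + g₁ • m₂ i, ?_⟩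
      rw [smul_add, mul_smul g₂ g₁ w₁, e₁, mul_comm, mul_smul g₁ g₂ w₂, e₂, Finset.smul_sum, Finset.smul_sum,
        ← Finset.sum_add_distrib]
      exact Finset.sum_congr rfl fun i _ => by rw [TensorProduct.tmul_add, TensorProduct.tmul_smul, TensorProduct.tmul_smul]
  -- coordinates
  let φ : Module.Free.ChooseBasisIndex Ap Bp → B ⊗[A] M →ₗ[A] LocalizedModule p.primeCompl M := fun j =>
    TensorProduct.lift (LinearMap.mk₂ A
      (fun x m => (e.repr (LocalizedModule.mkLinearMap p.primeCompl B x) j : Ap) • LocalizedModule.mkLinearMap p.primeCompl M m)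
      (fun x y m => by rw [map_add, map_add, Finsupp.add_apply, add_smul])
      (fun c x m => by rw [map_smul, ← algebraMap_smul Ap c, map_smul, Finsupp.smul_apply, smul_eq_mul, mul_smul, algebraMap_smul])
      (fun x m m' => by rw [map_add, smul_add])
      (fun c x m => by rw [map_smul, smul_comm]))
  obtain ⟨g, hg, m, hgz⟩ := key z
  have hφ : ∀ j, φ j (g • z) = LocalizedModule.mkLinearMap p.primeCompl M (m j) := fun j => by
    rw [hgz, map_sum, Finset.sum_eq_single j]
    · simp only [φ, TensorProduct.lift.tmul, LinearMap.mk₂_apply]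
      rw [← he, Module.Basis.repr_self, Finsupp.single_eq_same, one_smul]
    · intro i _ hij
      simp only [φ, TensorProduct.lift.tmul, LinearMap.mk₂_apply]
      rw [← he, Module.Basis.repr_self, Finsupp.single_eq_of_ne (Ne.symm hij), zero_smul]
    · exact fun h => absurd (Finset.mem_univ j) h
  obtain ⟨j, hj⟩ : ∃ j, ∀ a ∉ p, a • m j ≠ 0 := by
    by_contra hc
    push Not at hc
    choose a ha ha0 using hc
    refine hz1 ((∏ i, a i) * g) (Submonoid.mul_mem p.primeCompl (Submonoid.prod_mem _ fun i _ => ha i) hg) ?_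
    rw [mul_smul, hgz, Finset.smul_sum]
    refine Finset.sum_eq_zero fun i _ => ?_
    rw [← TensorProduct.tmul_smul, ← Finset.prod_erase_mul _ _ (Finset.mem_univ i), mul_smul, ha0 i, smul_zero,
      TensorProduct.tmul_zero]
  refine ⟨m j, ⟨⟨inferInstance, fun a ha => ?_⟩, fun q hq hqp f hf => ?_⟩⟩
  · by_contra hap
    exact hj a hap (mem_ann_iff.1 ha)
  · haveI := hq.1
    obtain ⟨a, ha, n, han⟩ := hz2 f hf
    have h0 : φ j ((a * f ^ n) • g • z) = 0 := by rw [smul_comm, han, smul_zero, map_zero]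
    rw [map_smul, hφ, ← map_smul] at h0
    obtain ⟨c, hc⟩ := (IsLocalizedModule.eq_zero_iff p.primeCompl (LocalizedModule.mkLinearMap p.primeCompl M)).1 h0
    rw [Submonoid.smul_def, smul_smul] at hc
    have : (c : A) * (a * f ^ n) ∈ q := hq.2 (mem_ann_iff.2 hc)
    have h1 : (c : A) ∉ q := fun h => c.2 (hqp h)
    have h2 : a ∉ q := fun h => ha (hqp h)
    exact hq.1.mem_of_pow_mem n ((hq.1.mem_or_mem ((hq.1.mem_or_mem this).resolve_left h1)).resolve_left h2)

omit [Module.Finite A B] in
/-- Weakly associated primes of a localisation. -/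
theorem mem_weakAss_localization_iff (W : Submonoid A) [IsLocalization W B] (t : Ideal B) [t.IsPrime] :
    t ∈ FlatCA.weakAss B (B ⊗[A] M) ↔ t.under A ∈ FlatCA.weakAss A M := by
  haveI : Module.Flat A B := IsLocalization.flat B W
  constructor
  · rintro ⟨z, hz⟩
    haveI : IsLocalizedModule W (TensorProduct.mk A B M 1) :=
      (isLocalizedModule_iff_isBaseChange W B _).2 (TensorProduct.isBaseChange A M B)
    obtain ⟨⟨m, w⟩, hw⟩ := IsLocalizedModule.surj W (TensorProduct.mk A B M 1) z
    refine ⟨m, ?_⟩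
    have e : (Submodule.span B {z}).annihilator = (Submodule.span B {(1 : B) ⊗ₜ[A] m}).annihilator :=
      Ideal.ext fun r => by
        rw [mem_ann_iff, mem_ann_iff, ← show (w : A) • z = (1 : B) ⊗ₜ[A] m from hw, ← algebraMap_smul B (w : A) z,
          smul_comm, (IsLocalization.map_units B w).smul_eq_zero]
    rw [e, annihilator_one_tmul, IsLocalization.minimalPrimes_map W] at hz
    exact hz
  · rintro ⟨m, hm⟩
    refine ⟨1 ⊗ₜ m, ?_⟩
    rw [annihilator_one_tmul, IsLocalization.minimalPrimes_map W]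
    exact hm

end Groth.Agent.WeakAssLib
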