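import Mathlib
import Groth.Prelude.Def_FlatCA

set_option autoImplicit false

/-! Weakly associated primes: element characterisation, localization. -/

namespace Groth.Agent.WeakAssLib

open Submodule

universe u v w

variable {R : Type u} [CommRing R] {M : Type v} [AddCommGroup M] [Module R M]

/-- The element condition for `p` to be minimal over the annihilator of `m`. -/
structure Wit (p : Ideal R) (m : M) : Prop where
  le : ∀ r : R, r • m = 0 → r ∈ p
  pow : ∀ x ∈ p, ∃ s ∉ p, ∃ n : ℕ, (s * x ^ n) • m = 0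

lemma mem_minimalPrimes_iff (p : Ideal R) (m : M) :
    p ∈ (Submodule.span R {m}).annihilator.minimalPrimes ↔ p.IsPrime ∧ Wit p m := by
  constructor
  · intro hp
    have hpp : p.IsPrime := Ideal.IsMinimalPrime.isPrime hp
    refine ⟨hpp, fun r hr ↦ hp.1.2 ((mem_annihilator_span_singleton m r).2 hr), fun x hx ↦ ?_⟩
    by_contra hno
    push Not at hno
    let T : Submonoid R :=
      { carrier := {a | ∃ s ∉ p, ∃ n : ℕ, a = s * x ^ n}
        one_mem' := ⟨1, fun h ↦ hpp.ne_top ((Ideal.eq_top_iff_one _).2 h), 0, by simp⟩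
        mul_mem' := by
          rintro a b ⟨s, hs, n, rfl⟩ ⟨t, ht, k, rfl⟩
          exact ⟨s * t, fun h ↦ (hpp.mem_or_mem h).elim hs ht, n + k, by ring⟩ }
    have hd : Disjoint ((Submodule.span R {m}).annihilator : Set R) (T : Set R) := by
      rw [Set.disjoint_left]
      rintro a ha ⟨s, hs, n, rfl⟩
      exact hno s hs n ((mem_annihilator_span_singleton m _).1 ha)
    obtain ⟨q, hq, hle, hqT⟩ := Ideal.exists_le_prime_disjoint _ T hd
    have hqp : q ≤ p := fun a ha ↦ by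
      by_contra h
      exact Set.disjoint_left.1 hqT ha ⟨a, h, 0, by simp⟩
    exact Set.disjoint_left.1 hqT (hp.2 ⟨hq, hle⟩ hqp hx)
      ⟨1, fun h ↦ hpp.ne_top ((Ideal.eq_top_iff_one _).2 h), 1, by simp⟩
  · rintro ⟨hpp, hle, hpow⟩
    refine ⟨⟨hpp, fun r hr ↦ hle r ((mem_annihilator_span_singleton m r).1 hr)⟩,
      fun q ⟨hq, hqle⟩ hqp x hx ↦ ?_⟩
    obtain ⟨s, hs, n, hn⟩ := hpow x hx
    exact hq.mem_of_pow_mem n
      ((hq.mem_or_mem (hqle ((mem_annihilator_span_singleton m _).2 hn))).resolve_left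
        fun h ↦ hs (hqp h))

lemma mem_weakAss {p : Ideal R} :
    p ∈ FlatCA.weakAss R M ↔ p.IsPrime ∧ ∃ m : M, Wit p m := by
  exact (exists_congr fun m ↦ mem_minimalPrimes_iff p m).trans exists_and_left

lemma mem_ass {p : Ideal R} :
    p ∈ FlatCA.ass R M ↔ p.IsPrime ∧ ∃ m : M, ∀ r, r ∈ p ↔ r • m = 0 := by
  simp only [FlatCA.ass, Set.mem_ofPred_eq, SetLike.ext_iff, mem_annihilator_span_singleton]

lemma exists_weakAss_of_ne_zero (m : M) (hm : m ≠ 0) {r : R} (hr : r • m = 0) :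
    ∃ p ∈ FlatCA.weakAss R M, r ∈ p ∧ ∀ a : R, a • m = 0 → a ∈ p := by
  have hne : (Submodule.span R {m}).annihilator ≠ ⊤ := fun h ↦ hm (by
    have := (mem_annihilator_span_singleton m (1 : R)).1 (h ▸ Submodule.mem_top)
    simpa using this)
  obtain ⟨q, hq, hle⟩ := Ideal.exists_le_maximal _ hne
  have := hq.isPrime
  obtain ⟨p, hp, -⟩ := Ideal.exists_minimalPrimes_le hle
  exact ⟨p, ⟨m, hp⟩, hp.1.2 ((mem_annihilator_span_singleton m r).2 hr),
    fun a ha ↦ hp.1.2 ((mem_annihilator_span_singleton m a).2 ha)⟩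

/-- Elements of a weakly associated prime are zero divisors. -/
lemma exists_smul_eq_zero {p : Ideal R} (hp : p ∈ FlatCA.weakAss R M) {x : R} (hx : x ∈ p) :
    ∃ y : M, y ≠ 0 ∧ x • y = 0 := by
  obtain ⟨hpp, m, hw⟩ := mem_weakAss.1 hp
  obtain ⟨s, hs, n, hn⟩ := hw.pow x hx
  induction n with
  | zero =>
    exact absurd (hw.le s (by simpa using hn)) hs
  | succ n ih =>
    by_cases h0 : (s * x ^ n) • m = 0
    · exact ih h0
    · exact ⟨_, h0, by rw [← mul_smul, ← hn]; ring_nf⟩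

section Surjective

variable {A : Type w} [CommRing A] [Algebra R A] [Module A M] [IsScalarTower R A M]

lemma wit_comap_iff (q : Ideal A)
    (hgen : ∀ a : A, ∃ (r : R) (u : Aˣ), a = algebraMap R A r * u) (m : M) :
    Wit (q.comap (algebraMap R A)) m ↔ Wit q m := by
  constructor
  · intro h
    refine ⟨fun a ha ↦ ?_, fun x hx ↦ ?_⟩
    · obtain ⟨r, u, rfl⟩ := hgen a
      refine q.mul_mem_right _ (h.le r ?_)
      have : (u⁻¹ : Aˣ).1 • ((algebraMap R A r * u) • m) = 0 := by rw [ha, smul_zero]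
      rw [← mul_smul, mul_comm _ (u : A), ← mul_assoc, Units.inv_mul, one_mul,
        algebraMap_smul] at this
      exact this
    · obtain ⟨r, u, rfl⟩ := hgen x
      have hr : r ∈ q.comap (algebraMap R A) := by
        have := q.mul_mem_right (u⁻¹ : Aˣ).1 hx
        rwa [mul_assoc, Units.mul_inv, mul_one] at this
      obtain ⟨s, hs, n, hn⟩ := h.pow r hr
      refine ⟨algebraMap R A s, hs, n, ?_⟩
      rw [mul_pow, ← mul_assoc, ← map_pow, ← map_mul, mul_comm, mul_smul, algebraMap_smul, hn,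
        smul_zero]
  · intro h
    refine ⟨fun r hr ↦ h.le (algebraMap R A r) (by rwa [algebraMap_smul]), fun x hx ↦ ?_⟩
    obtain ⟨a, ha, n, hn⟩ := h.pow (algebraMap R A x) hx
    obtain ⟨s, u, rfl⟩ := hgen a
    refine ⟨s, fun hs ↦ ha (q.mul_mem_right _ hs), n, ?_⟩
    have : (u⁻¹ : Aˣ).1 • ((algebraMap R A s * u * algebraMap R A x ^ n) • m) = 0 := by
      rw [hn, smul_zero]
    rw [← mul_smul, show (u⁻¹ : Aˣ).1 * (algebraMap R A s * u * algebraMap R A x ^ n) =
        algebraMap R A (s * x ^ n) * ((u⁻¹ : Aˣ).1 * u) by rw [map_mul, map_pow]; ring,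
      Units.inv_mul, mul_one, algebraMap_smul] at this
    exact this

end Surjective

section Localization

variable (S : Submonoid R)

lemma localization_gen (a : Localization S) :
    ∃ (r : R) (u : (Localization S)ˣ), a = algebraMap R (Localization S) r * u := by
  obtain ⟨r, s, rfl⟩ := IsLocalization.exists_mk'_eq S a
  refine ⟨r, (IsLocalization.map_units (Localization S) s).unit⁻¹, ?_⟩
  rw [Units.eq_mul_inv_iff_mul_eq]
  exact IsLocalization.mk'_spec _ r s

variable {S} {N : Type w} [AddCommGroup N] [Module R N] [Module (Localization S) N]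
  [IsScalarTower R (Localization S) N]

lemma disjoint_of_wit {p : Ideal R} (hp : p.IsPrime) {y : N} (h : Wit p y) :
    Disjoint (S : Set R) (p : Set R) := by
  rw [Set.disjoint_left]
  intro u hu hup
  obtain ⟨s, hs, n, hn⟩ := h.pow u hup
  refine hs (h.le s ?_)
  rw [mul_comm, mul_smul, ← algebraMap_smul (Localization S) (u ^ n)] at hn
  exact (IsLocalization.map_units (Localization S) (⟨u ^ n, pow_mem hu n⟩ : S)).smul_eq_zero.1 hn

variable (S) in
lemma weakAss_eq_comap :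
    FlatCA.weakAss R N =
      Ideal.comap (algebraMap R (Localization S)) '' FlatCA.weakAss (Localization S) N := by
  ext p
  constructor
  · intro hp
    obtain ⟨hpp, y, hy⟩ := mem_weakAss.1 hp
    have hd := disjoint_of_wit (S := S) hpp hy
    have hc := IsLocalization.under_map_of_isPrime_disjoint S (Localization S) hpp hd
    refine ⟨p.map (algebraMap R (Localization S)), mem_weakAss.2
      ⟨IsLocalization.isPrime_of_isPrime_disjoint S _ p hpp hd, y, ?_⟩, hc⟩
    rw [← wit_comap_iff (R := R) _ (localization_gen S) y]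
    rw [show Ideal.comap _ (p.map (algebraMap R (Localization S))) = p from hc]
    exact hy
  · rintro ⟨q, hq, rfl⟩
    obtain ⟨hqp, y, hy⟩ := mem_weakAss.1 hq
    exact mem_weakAss.2 ⟨hqp.comap _, y, (wit_comap_iff (R := R) q (localization_gen S) y).2 hy⟩

lemma disjoint_of_mem_ass {p : Ideal R} {y : N} (hp : p.IsPrime)
    (hy : ∀ r, r ∈ p ↔ r • y = 0) : Disjoint (S : Set R) (p : Set R) := by
  rw [Set.disjoint_left]
  intro u hu hup
  have h0 := (hy u).1 hup
  rw [← algebraMap_smul (Localization S) u] at h0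
  have hy0 := (IsLocalization.map_units (Localization S) (⟨u, hu⟩ : S)).smul_eq_zero.1 h0
  exact hp.ne_top ((Ideal.eq_top_iff_one _).2 ((hy 1).2 (by simp [hy0])))

variable (S) in
lemma ass_eq_comap :
    FlatCA.ass R N =
      Ideal.comap (algebraMap R (Localization S)) '' FlatCA.ass (Localization S) N := by
  ext p
  constructor
  · intro hp
    obtain ⟨hpp, y, hy⟩ := mem_ass.1 hp
    have hd := disjoint_of_mem_ass (S := S) hpp hy
    have hc := IsLocalization.under_map_of_isPrime_disjoint S (Localization S) hpp hd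
    refine ⟨p.map (algebraMap R (Localization S)), mem_ass.2
      ⟨IsLocalization.isPrime_of_isPrime_disjoint S _ p hpp hd, y, fun a ↦ ?_⟩, hc⟩
    obtain ⟨r, u, rfl⟩ := localization_gen S a
    rw [Ideal.mul_unit_mem_iff_mem _ u.isUnit, mul_comm, mul_smul, u.isUnit.smul_eq_zero,
      algebraMap_smul, ← hy]
    exact ⟨fun h ↦ hc ▸ h, Ideal.mem_map_of_mem _⟩
  · rintro ⟨q, hq, rfl⟩
    obtain ⟨hqp, y, hy⟩ := mem_ass.1 hq
    exact mem_ass.2 ⟨hqp.comap _, y, fun r ↦ by rw [Ideal.mem_comap, hy, algebraMap_smul]⟩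

variable (S)

lemma smul_mk_eq_zero_iff (r : R) (m : M) (s : S) :
    r • LocalizedModule.mk m s = 0 ↔ ∃ u : S, ((u : R) * r) • m = 0 := by
  rw [LocalizedModule.smul'_mk, ← LocalizedModule.zero_mk s, LocalizedModule.mk_eq]
  simp only [Submonoid.smul_def, smul_zero, ← mul_smul]
  refine ⟨fun ⟨u, hu⟩ ↦ ⟨u * s, by rw [Submonoid.coe_mul, mul_assoc, hu]⟩, fun ⟨u, hu⟩ ↦ ⟨u, ?_⟩⟩
  rw [show (u : R) * ((s : R) * r) = s * (u * r) by ring, mul_smul, hu, smul_zero]

lemma wit_mk_iff {p : Ideal R} (hpp : p.IsPrime) (hd : Disjoint (S : Set R) (p : Set R))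
    (m : M) (s : S) : Wit p (LocalizedModule.mk m s) ↔ Wit p m := by
  have hS : ∀ u : S, (u : R) ∉ p := fun u hu ↦ Set.disjoint_left.1 hd u.2 hu
  constructor
  · intro h
    refine ⟨fun r hr ↦ h.le r ((smul_mk_eq_zero_iff S r m s).2 ⟨1, by simpa using hr⟩), fun x hx ↦ ?_⟩
    obtain ⟨t, ht, n, hn⟩ := h.pow x hx
    obtain ⟨u, hu⟩ := (smul_mk_eq_zero_iff S _ m s).1 hn
    exact ⟨u * t, fun hh ↦ (hpp.mem_or_mem hh).elim (hS u) ht, n, by rwa [mul_assoc]⟩
  · intro h
    refine ⟨fun r hr ↦ ?_, fun x hx ↦ ?_⟩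
    · obtain ⟨u, hu⟩ := (smul_mk_eq_zero_iff S r m s).1 hr
      exact (hpp.mem_or_mem (h.le _ hu)).resolve_left (hS u)
    · obtain ⟨t, ht, n, hn⟩ := h.pow x hx
      exact ⟨t, ht, n, (smul_mk_eq_zero_iff S _ m s).2 ⟨1, by simpa using hn⟩⟩

lemma mem_weakAss_localized_iff {p : Ideal R} (hd : Disjoint (S : Set R) (p : Set R)) :
    p ∈ FlatCA.weakAss R (LocalizedModule S M) ↔ p ∈ FlatCA.weakAss R M := by
  simp only [mem_weakAss]
  refine ⟨fun ⟨hpp, y, hy⟩ ↦ ?_,
    fun ⟨hpp, m, hm⟩ ↦ ⟨hpp, _, (wit_mk_iff S hpp hd m 1).2 hm⟩⟩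
  induction y using LocalizedModule.induction_on with
  | h m s => exact ⟨hpp, m, (wit_mk_iff S hpp hd m s).1 hy⟩

lemma disjoint_of_regular (hS : ∀ s ∈ S, IsSMulRegular M s) {p : Ideal R}
    (hp : p ∈ FlatCA.weakAss R M) : Disjoint (S : Set R) (p : Set R) := by
  rw [Set.disjoint_left]
  intro u hu hup
  obtain ⟨y, hy, h0⟩ := exists_smul_eq_zero hp hup
  exact hy (hS u hu (by simpa using h0))

lemma weakAss_localized_eq (hS : ∀ s ∈ S, IsSMulRegular M s) :
    FlatCA.weakAss R M = FlatCA.weakAss R (LocalizedModule S M) := by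
  ext p
  refine ⟨fun hp ↦ (mem_weakAss_localized_iff S (disjoint_of_regular S hS hp)).2 hp, fun hp ↦ ?_⟩
  obtain ⟨hpp, y, hy⟩ := mem_weakAss.1 hp
  exact (mem_weakAss_localized_iff S (disjoint_of_wit (S := S) hpp hy)).1 hp

lemma mem_ass_localized {p : Ideal R} (hd : Disjoint (S : Set R) (p : Set R))
    (hp : p ∈ FlatCA.ass R M) : p ∈ FlatCA.ass R (LocalizedModule S M) := by
  obtain ⟨hpp, m, hm⟩ := mem_ass.1 hp
  refine mem_ass.2 ⟨hpp, LocalizedModule.mk m 1, fun r ↦ ?_⟩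
  rw [smul_mk_eq_zero_iff]
  refine ⟨fun h ↦ ⟨1, by simpa using (hm r).1 h⟩, fun ⟨u, hu⟩ ↦ ?_⟩
  exact (hpp.mem_or_mem ((hm _).2 hu)).resolve_left fun h ↦ Set.disjoint_left.1 hd u.2 h

lemma ass_localized_eq (hS : ∀ s ∈ S, IsSMulRegular M s) :
    FlatCA.ass R M = FlatCA.ass R (LocalizedModule S M) := by
  ext p
  simp only [mem_ass]
  have key : ∀ (r : R) (m : M) (s : S), r • LocalizedModule.mk m s = 0 ↔ r • m = 0 := by
    intro r m s
    rw [smul_mk_eq_zero_iff]
    refine ⟨fun ⟨u, hu⟩ ↦ hS u u.2 ?_, fun h ↦ ⟨1, by simpa using h⟩⟩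
    simpa [mul_smul] using hu
  refine ⟨fun ⟨hpp, m, hm⟩ ↦ ⟨hpp, LocalizedModule.mk m 1, fun r ↦ by rw [key, hm]⟩,
    fun ⟨hpp, y, hy⟩ ↦ ?_⟩
  induction y using LocalizedModule.induction_on with
  | h m s => exact ⟨hpp, m, fun r ↦ by rw [hy, key]⟩

end Localization

/-- A finitely generated weakly associated prime is associated. -/
lemma mem_ass_of_fg {p : Ideal R} (hp : p ∈ FlatCA.weakAss R M) (hfg : p.FG) :
    p ∈ FlatCA.ass R M := by
  classical
  obtain ⟨hpp, m₀, hm₀⟩ := mem_weakAss.1 hp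
  obtain ⟨T, hT⟩ := hfg
  suffices ∀ U : Finset R, ↑U ⊆ (p : Set R) →
      ∃ m : M, Wit p m ∧ ∀ x ∈ U, x • m = 0 by
    obtain ⟨m, hm, hU⟩ := this T (fun x hx ↦ hT ▸ Ideal.subset_span hx)
    refine mem_ass.2 ⟨hpp, m, fun r ↦ ⟨fun hr ↦ ?_, hm.le r⟩⟩
    rw [← mem_annihilator_span_singleton]
    exact (hT ▸ Submodule.span_le.2 fun x hx ↦ (mem_annihilator_span_singleton m x).2 (hU x hx) :
      p ≤ (Submodule.span R {m}).annihilator) hr
  intro U hU
  induction U using Finset.induction with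
  | empty => exact ⟨m₀, hm₀, by simp⟩
  | insert x U hxU ih =>
    rw [Finset.coe_insert, Set.insert_subset_iff] at hU
    obtain ⟨m, hm, hmU⟩ := ih hU.2
    have hex : ∃ n, ∃ s ∉ p, (s * x ^ n) • m = 0 := by
      obtain ⟨s, hs, n, hn⟩ := hm.pow x hU.1
      exact ⟨n, s, hs, hn⟩
    obtain ⟨s, hs, hsn⟩ := Nat.find_spec hex
    rcases hn : Nat.find hex with _ | n
    · rw [hn] at hsn
      exact absurd (hm.le s (by simpa using hsn)) hs
    rw [hn] at hsn
    refine ⟨(s * x ^ n) • m, ⟨fun r hr ↦ ?_, fun z hz ↦ ?_⟩, fun z hz ↦ ?_⟩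
    · by_contra hr'
      refine Nat.find_min hex (show n < Nat.find hex by rw [hn]; exact n.lt_succ_self) ⟨r * s, fun h ↦ (hpp.mem_or_mem h).elim hr' hs, ?_⟩
      rw [← hr, ← mul_smul, mul_assoc]
    · obtain ⟨t, ht, k, hk⟩ := hm.pow z hz
      exact ⟨t, ht, k, by rw [smul_comm, hk, smul_zero]⟩
    · rcases Finset.mem_insert.1 hz with rfl | hz
      · rw [← mul_smul, ← hsn]; ring_nf
      · rw [smul_comm, hmU z hz, smul_zero]

end Groth.Agent.WeakAssLib
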