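import Groth.Agent.WeakAssLib.Flat
import Groth.Agent.S1233
import Groth.Agent.ProEtLib2.IndEtale
import Groth.Agent.WLocalLib.WeakEtale
import Groth.Agent.DRingLib.WeaklyEtaleAmp
import Groth.Agent.S0736

/-!
# Weakly associated primes under local ind-étale maps
-/

set_option autoImplicit false
set_option backward.isDefEq.respectTransparency false
set_option linter.style.haveILetI false

universe u

open TensorProduct IsLocalRing

namespace Groth.Agent.WeakAssLib

variable {R S : Type u} [CommRing R] [IsLocalRing R] [CommRing S] [IsLocalRing S] [Algebra R S]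
  [IsLocalHom (algebraMap R S)]

theorem maximalIdeal_mem_weakAss_iff (h : EtPBC.IsIndEtale R S) (M : Type u) [AddCommGroup M] [Module R M] :
    maximalIdeal S ∈ FlatCA.weakAss S (S ⊗[R] M) ↔ maximalIdeal R ∈ FlatCA.weakAss R M := by
  classical
  haveI : Algebra.WeaklyEtale R S := Groth.Agent.S0736.result _ _ h
  have hunder : (maximalIdeal S).under R = maximalIdeal R :=
    IsLocalRing.maximalIdeal_comap (algebraMap R S)
  constructor
  · rintro ⟨z, hz⟩
    obtain ⟨T, hT⟩ := TensorProduct.exists_finset (R := R) z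
    let g : MvPolynomial T R →ₐ[R] S := MvPolynomial.aeval fun i => i.1.1
    obtain ⟨E, _, _, _, u, v, huv⟩ := Groth.Agent.ProEtLib2.exists_factor h (MvPolynomial T R) g
    letI := v.toRingHom.toAlgebra
    haveI : IsScalarTower R E S := IsScalarTower.of_algebraMap_eq fun r => (v.commutes r).symm
    haveI : Algebra.WeaklyEtale E S := Groth.Agent.DRingLib.weaklyEtale_of_restrictScalars R E S
    let z' : E ⊗[R] M := ∑ i : T, u (MvPolynomial.X i) ⊗ₜ[R] i.1.2
    let e := AlgebraTensorModule.cancelBaseChange R E S S M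
    have he : e ((1 : S) ⊗ₜ[E] z') = z := by
      rw [hT, ← Finset.sum_coe_sort T]
      simp only [z', TensorProduct.tmul_sum, map_sum]
      refine Finset.sum_congr rfl fun i _ => ?_
      rw [AlgebraTensorModule.cancelBaseChange_tmul, Algebra.smul_def, mul_one]
      congr 1
      exact (DFunLike.congr_fun huv (MvPolynomial.X i)).trans (MvPolynomial.aeval_X _ i)
    rw [← he, ann_equiv, annihilator_one_tmul] at hz
    let t := (maximalIdeal S).under E
    haveI : t.LiesOver (maximalIdeal R) := ⟨by rw [Ideal.under_under, hunder]⟩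
    refine (Groth.Agent.S1233.result M (maximalIdeal R) t).1 ⟨z', ⟨inferInstance, ?_⟩, fun q hq hqt => ?_⟩
    · exact Ideal.map_le_iff_le_comap.1 hz.1.2
    · haveI := hq.1
      obtain ⟨Q, hQle, hQp, hQover⟩ :=
        Ideal.exists_ideal_le_liesOver_of_le (p := q) (q := t) (maximalIdeal S) hqt
      have hQ : Ideal.map (algebraMap E S) (Submodule.span E {z'}).annihilator ≤ Q :=
        (Ideal.map_mono hq.2).trans (Ideal.map_le_iff_le_comap.2 (hQover.over.le))
      have := hz.2 ⟨hQp, hQ⟩ hQle
      exact (Ideal.comap_mono this).trans hQover.over.ge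
  · rintro ⟨m, hm⟩
    refine ⟨1 ⊗ₜ m, ?_⟩
    rw [annihilator_one_tmul]
    refine ⟨⟨inferInstance, Ideal.map_le_iff_le_comap.2 (hm.1.2.trans_eq hunder.symm)⟩, fun q hq hqt => ?_⟩
    haveI := hq.1
    have h1 : maximalIdeal R ≤ q.under R := hm.2 ⟨inferInstance, Ideal.map_le_iff_le_comap.1 hq.2⟩
      (IsLocalRing.le_maximalIdeal (Ideal.IsPrime.ne_top inferInstance))
    have := Groth.Agent.WLocalLib.incomparable_of_weaklyEtale (A := R) (B := S)
      ⟨q, hq.1⟩ ⟨maximalIdeal S, inferInstance⟩
      (le_antisymm (Ideal.comap_mono hqt) (le_of_eq_of_le hunder h1)) hqt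
    exact (congrArg PrimeSpectrum.asIdeal this).ge

end Groth.Agent.WeakAssLib
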